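import Mathlib

/-!
# Points of a quasi-compact quasi-separated scheme in an infinite product of rings
-/

universe u

open CategoryTheory CategoryTheory.Limits AlgebraicGeometry TopologicalSpace

namespace GrothLib.ProdPoints

section QS

variable {X : Scheme.{u}} [QuasiSeparatedSpace X]

lemma quasiCompact_prod_lift : QuasiCompact (prod.lift (𝟙 X) (𝟙 X)) := by
  have h := (quasiSeparatedSpace_iff_quasiSeparated X).1 inferInstance
  have h' : QuasiCompact (pullback.diagonal (terminal.from X)) := by infer_instance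
  rw [← MorphismProperty.cancel_right_of_respectsIso @QuasiCompact _ (prodIsoPullback X X).hom]
  convert h'
  apply pullback.hom_ext <;> simp
  · exact prod.lift_fst (𝟙 X) (𝟙 X)
  · exact prod.lift_snd (𝟙 X) (𝟙 X)

/-- Morphisms to a quasi-separated scheme out of the spectrum of a product of rings are determined
by their restrictions to the factors. -/
lemma hom_ext {ι : Type u} {B : ι → CommRingCat.{u}} {Q : CommRingCat.{u}} (π : ∀ i, Q ⟶ B i)
    (hinj : ∀ q : Q, (∀ i, (π i).hom q = 0) → q = 0)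
    (hsurj : ∀ b : ∀ i, B i, ∃ q : Q, ∀ i, (π i).hom q = b i)
    (f g : Spec Q ⟶ X) (h : ∀ i, Spec.map (π i) ≫ f = Spec.map (π i) ≫ g) : f = g := by
  let e := equalizer.ι f g
  have : QuasiCompact e :=
    MorphismProperty.of_isPullback (isPullback_equalizer_prod f g).flip quasiCompact_prod_lift
  have : IsImmersion e :=
    MorphismProperty.of_isPullback (isPullback_equalizer_prod f g).flip inferInstance
  have hfac : ∀ i, ∃ l : Spec (B i) ⟶ equalizer f g, l ≫ e = Spec.map (π i) := fun i =>
    ⟨equalizer.lift _ (h i), equalizer.lift_ι _ _⟩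
  choose l hl using hfac
  -- the only quasi-compact open containing the image is everything
  have hZ : IsCompact (Set.range e) := by
    rw [← Set.image_univ]
    have : CompactSpace ↥(equalizer f g) := QuasiCompact.compactSpace_of_compactSpace e
    exact isCompact_univ.image e.continuous
  have hW : e.coborderRange = ⊤ := by
    have hsub : Set.range e ⊆ (e.coborderRange : Set (Spec Q)) := subset_coborder
    have hcov : Set.range e ⊆ ⋃ r : {r : Q //
        (PrimeSpectrum.basicOpen r : Set (PrimeSpectrum Q)) ⊆ (e.coborderRange : Set (Spec Q))},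
        (PrimeSpectrum.basicOpen r.1 : Set (PrimeSpectrum Q)) := by
      intro x hx
      obtain ⟨_, ⟨r, rfl⟩, hxr, hr⟩ := PrimeSpectrum.isTopologicalBasis_basic_opens.exists_subset_of_mem_open
        (hsub hx) e.coborderRange.2
      exact Set.mem_iUnion.2 ⟨⟨r, hr⟩, hxr⟩
    obtain ⟨t, ht⟩ := hZ.elim_finite_subcover _
      (fun r => PrimeSpectrum.isOpen_basicOpen) hcov
    have htop : ∀ i, Ideal.span (Set.range fun r : t => (π i).hom r.1.1) = ⊤ := by
      intro i
      by_contra hne
      obtain ⟨m, hm, hle⟩ := Ideal.exists_le_maximal _ hne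
      have hmem := ht ⟨l i ⟨m, hm.isPrime⟩, rfl⟩
      obtain ⟨r, hr, hx⟩ := Set.mem_iUnion₂.1 hmem
      rw [← Scheme.Hom.comp_apply, hl] at hx
      exact hx (hle (Ideal.subset_span ⟨⟨r, hr⟩, rfl⟩))
    have hcoef : ∀ i, ∃ a : t → B i, ∑ r, a r * (π i).hom r.1.1 = 1 := fun i =>
      Ideal.mem_span_range_iff_exists_fun.1 ((htop i).symm ▸ Submodule.mem_top)
    choose a ha using hcoef
    choose c hc using fun r : t => hsurj fun i => a i r
    have h1 : ∑ r : t, c r * r.1.1 = 1 := by
      refine sub_eq_zero.1 (hinj _ fun i => ?_)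
      simp only [map_sub, map_sum, map_mul, map_one, hc, ha, sub_self]
    rw [eq_top_iff]
    intro x _
    by_contra hx
    refine x.isPrime.ne_top ((Ideal.eq_top_iff_one _).2 (h1 ▸ Submodule.sum_mem _ fun r _ => ?_))
    refine Ideal.mul_mem_left _ _ ?_
    by_contra hr
    exact hx (r.1.2 hr)
  have : IsClosedImmersion e := by
    rw [← e.liftCoborder_ι]
    have : IsIso e.coborderRange.ι := by rw [hW]; exact inferInstanceAs (IsIso (Spec Q).topIso.hom)
    infer_instance
  obtain ⟨I, φ, hφ⟩ := IsClosedImmersion.Spec_iff.1 this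
  have hI : I = ⊥ := by
    rw [eq_bot_iff]
    intro q hq
    refine hinj q fun i => ?_
    let ψ := Spec.preimage (l i ≫ φ.hom)
    have : CommRingCat.ofHom (Ideal.Quotient.mk I) ≫ ψ = π i := by
      apply Spec.map_injective
      rw [Spec.map_comp, Spec.map_preimage, Category.assoc, ← hφ, hl]
    rw [← this]
    simp [Ideal.Quotient.eq_zero_iff_mem.2 hq]
  have hiso : IsIso e := by
    rw [hφ]
    subst hI
    have : IsIso (CommRingCat.ofHom (Ideal.Quotient.mk (⊥ : Ideal Q))) :=
      (ConcreteCategory.isIso_iff_bijective _).2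
        (RingEquiv.quotientBot Q).symm.bijective
    infer_instance
  exact (cancel_epi e).1 (equalizer.condition f g)

end QS

section Overlap

variable {X : Scheme.{u}} [QuasiSeparatedSpace X] {ι : Type u} (A : ι → CommRingCat.{u})
  (a b : ∀ i, A i) (La Lb D : ι → Type u)
  [∀ i, CommRing (La i)] [∀ i, Algebra (A i) (La i)] [∀ i, IsLocalization.Away (a i) (La i)]
  [∀ i, CommRing (Lb i)] [∀ i, Algebra (A i) (Lb i)] [∀ i, IsLocalization.Away (b i) (Lb i)]
  [∀ i, CommRing (D i)] [∀ i, Algebra (La i) (D i)]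
  [∀ i, IsLocalization.Away (algebraMap (A i) (La i) (b i)) (D i)]

include a b D in
lemma compat (f : ∀ i, Spec (A i) ⟶ X)
    (φa : Spec (CommRingCat.of (∀ i, La i)) ⟶ X) (φb : Spec (CommRingCat.of (∀ i, Lb i)) ⟶ X)
    (ha : ∀ i, Spec.map (CommRingCat.ofHom (Pi.evalRingHom La i)) ≫ φa =
      Spec.map (CommRingCat.ofHom (algebraMap (A i) (La i))) ≫ f i)
    (hb : ∀ i, Spec.map (CommRingCat.ofHom (Pi.evalRingHom Lb i)) ≫ φb =
      Spec.map (CommRingCat.ofHom (algebraMap (A i) (Lb i))) ≫ f i) :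
    pullback.fst (Spec.map (CommRingCat.ofHom (algebraMap (∀ i, A i) (∀ i, La i))))
        (Spec.map (CommRingCat.ofHom (algebraMap (∀ i, A i) (∀ i, Lb i)))) ≫ φa =
      pullback.snd (Spec.map (CommRingCat.ofHom (algebraMap (∀ i, A i) (∀ i, La i))))
        (Spec.map (CommRingCat.ofHom (algebraMap (∀ i, A i) (∀ i, Lb i)))) ≫ φb := by
  let Sb : Submonoid (∀ i, A i) := Submonoid.pi Set.univ (fun i => Submonoid.powers (b i))
  haveI : IsLocalization Sb (∀ i, Lb i) := inferInstance
  let N : Submonoid (∀ i, La i) :=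
    Submonoid.pi Set.univ (fun i => Submonoid.powers (algebraMap (A i) (La i) (b i)))
  have hN : Algebra.algebraMapSubmonoid (∀ i, La i) Sb = N := by
    ext x
    constructor
    · rintro ⟨y, hy, rfl⟩ i -
      obtain ⟨m, hm⟩ := hy i trivial
      exact ⟨m, (map_pow _ _ _).symm.trans (congrArg (algebraMap (A i) (La i)) hm)⟩
    · intro hx
      choose m hm using fun i => hx i trivial
      exact ⟨fun i => b i ^ m i, fun i _ => ⟨m i, rfl⟩,
        funext fun i => ((map_pow _ _ _).trans (hm i))⟩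
  haveI : IsLocalization N (∀ i, D i) := inferInstance
  haveI hT : IsLocalization N (TensorProduct (∀ i, A i) (∀ i, La i) (∀ i, Lb i)) :=
    hN ▸ inferInstance
  let e := IsLocalization.algEquiv N (TensorProduct (∀ i, A i) (∀ i, La i) (∀ i, Lb i)) (∀ i, D i)
  let π : ∀ i, CommRingCat.of (TensorProduct (∀ i, A i) (∀ i, La i) (∀ i, Lb i)) ⟶
      CommRingCat.of (D i) := fun i =>
    CommRingCat.ofHom ((Pi.evalRingHom D i).comp e.toAlgHom.toRingHom)
  rw [← cancel_epi (pullbackSpecIso (∀ i, A i) (∀ i, La i) (∀ i, Lb i)).inv,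
    pullbackSpecIso_inv_fst_assoc, pullbackSpecIso_inv_snd_assoc]
  refine hom_ext π (fun z hz => e.injective ((funext hz).trans (map_zero e).symm))
    (fun b => ⟨e.symm b, fun i => congrFun (e.apply_symm_apply b) i⟩) _ _ fun i => ?_
  let ψ : A i →+* D i := (algebraMap (La i) (D i)).comp (algebraMap (A i) (La i))
  have hu : IsUnit (ψ (b i)) :=
    IsLocalization.Away.algebraMap_isUnit (S := D i) (algebraMap (A i) (La i) (b i))
  let η : Lb i →+* D i := IsLocalization.Away.lift (b i) hu
  let incl := Algebra.TensorProduct.includeRight (R := ∀ i, A i) (A := ∀ i, La i) (B := ∀ i, Lb i)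
  have h1 : CommRingCat.ofHom (Algebra.TensorProduct.includeLeftRingHom
        (R := ∀ i, A i) (A := ∀ i, La i) (B := ∀ i, Lb i)) ≫ π i =
      CommRingCat.ofHom (Pi.evalRingHom La i) ≫ CommRingCat.ofHom (algebraMap (La i) (D i)) := by
    refine CommRingCat.hom_ext (RingHom.ext fun x => ?_)
    exact congrFun (e.commutes x) i
  have h2 : CommRingCat.ofHom incl.toRingHom ≫ π i =
      CommRingCat.ofHom (Pi.evalRingHom Lb i) ≫ CommRingCat.ofHom η := by
    refine CommRingCat.hom_ext (IsLocalization.ringHom_ext Sb (RingHom.ext fun x => ?_))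
    have hc : incl (algebraMap (∀ i, A i) (∀ i, Lb i) x) =
        algebraMap (∀ i, La i) _ (algebraMap (∀ i, A i) (∀ i, La i) x) :=
      (incl.commutes x).trans (IsScalarTower.algebraMap_apply _ _ _ x)
    have h4 : η (algebraMap (A i) (Lb i) (x i)) = ψ (x i) := IsLocalization.Away.lift_eq (b i) hu (x i)
    exact ((congrArg (fun z => e z i) hc).trans (congrFun (e.commutes _) i)).trans h4.symm
  have h3 : CommRingCat.ofHom (algebraMap (A i) (Lb i)) ≫ CommRingCat.ofHom η =
      CommRingCat.ofHom (algebraMap (A i) (La i)) ≫ CommRingCat.ofHom (algebraMap (La i) (D i)) :=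
    CommRingCat.hom_ext (RingHom.ext fun x => IsLocalization.Away.lift_eq (b i) hu x)
  have h2' : CommRingCat.ofHom (Algebra.TensorProduct.includeRight
      (R := ∀ i, A i) (A := ∀ i, La i) (B := ∀ i, Lb i)).toRingHom ≫ π i = _ := h2
  rw [← Category.assoc, ← Category.assoc, ← Spec.map_comp, ← Spec.map_comp, h1]
  erw [h2']
  rw [Spec.map_comp, Spec.map_comp, Category.assoc, Category.assoc, ha, hb, ← Category.assoc,
    ← Category.assoc, ← Spec.map_comp, ← Spec.map_comp, h3]

end Overlap

/-- Morphisms descend along a flat, quasi-compact, jointly surjective family. -/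
lemma desc_family {X S : Scheme.{u}} {J : Type u} {Y : J → Scheme.{u}} (q : ∀ j, Y j ⟶ S)
    (φ : ∀ j, Y j ⟶ X)
    (h : ∀ j k, pullback.fst (q j) (q k) ≫ φ j = pullback.snd (q j) (q k) ≫ φ k)
    [Flat (Sigma.desc q)] [Surjective (Sigma.desc q)] [QuasiCompact (Sigma.desc q)] :
    ∃ F : S ⟶ X, ∀ j, q j ≫ F = φ j := by
  have hφp : pullback.fst (Sigma.desc q) (Sigma.desc q) ≫ Sigma.desc φ =
      pullback.snd (Sigma.desc q) (Sigma.desc q) ≫ Sigma.desc φ := by
    refine (Scheme.Pullback.openCoverOfLeftRight (sigmaOpenCover Y) (sigmaOpenCover Y)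
      (Sigma.desc q) (Sigma.desc q)).hom_ext _ _ fun jk => ?_
    change pullback.map _ _ _ _ (Sigma.ι Y jk.1) (Sigma.ι Y jk.2) (𝟙 _)
        (Category.comp_id _) (Category.comp_id _) ≫ _ =
      pullback.map _ _ _ _ (Sigma.ι Y jk.1) (Sigma.ι Y jk.2) (𝟙 _)
        (Category.comp_id _) (Category.comp_id _) ≫ _
    simp only [pullback.lift_fst_assoc, pullback.lift_snd_assoc, Category.assoc, Sigma.ι_desc]
    rw [← cancel_epi (pullback.congrHom (Sigma.ι_desc q jk.1) (Sigma.ι_desc q jk.2)).inv]
    simp only [pullback.congrHom_inv, pullback.map, pullback.lift_fst_assoc, pullback.lift_snd_assoc,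
      Category.assoc, Category.comp_id]
    exact h jk.1 jk.2
  refine ⟨EffectiveEpi.desc (Sigma.desc q) (Sigma.desc φ) fun g₁ g₂ h => ?_, fun j => ?_⟩
  · rw [← pullback.lift_fst g₁ g₂ h, Category.assoc, hφp, ← Category.assoc, pullback.lift_snd]
  · conv_lhs => rw [← Sigma.ι_desc q j, Category.assoc]
    rw [EffectiveEpi.fac, Sigma.ι_desc]

variable {X : Scheme.{u}} {ι : Type u} (A : ι → CommRingCat.{u})

/-- A compatible family on the factors extends to the product ring. -/
lemma exists_hom [CompactSpace X] [QuasiSeparatedSpace X] (f : ∀ i, Spec (A i) ⟶ X) :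
    ∃ F : Spec (CommRingCat.of (∀ i, A i)) ⟶ X,
      ∀ i, Spec.map (CommRingCat.ofHom (Pi.evalRingHom (fun j => (A j : Type u)) i)) ≫ F = f i := by
  obtain ⟨s, hs⟩ : ∃ s : Finset X.affineOpens, (⊤ : X.Opens) ≤ ⨆ U ∈ s, U.1 := by
    have hcov : (Set.univ : Set X) ⊆ ⋃ U : X.affineOpens, (U.1 : Set X) := by
      intro x _
      obtain ⟨_, ⟨U, hU, rfl⟩, hxU, -⟩ := X.isBasis_affineOpens.exists_subset_of_mem_open
        (Set.mem_univ x) isOpen_univ
      exact Set.mem_iUnion.2 ⟨⟨U, hU⟩, hxU⟩
    obtain ⟨t, ht⟩ := isCompact_univ.elim_finite_subcover _ (fun U : X.affineOpens => U.1.2) hcov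
    refine ⟨t, fun x hx => ?_⟩
    obtain ⟨U, hU, hxU⟩ := Set.mem_iUnion₂.1 (ht (Set.mem_univ x))
    exact Opens.mem_iSup.2 ⟨U, Opens.mem_iSup.2 ⟨hU, hxU⟩⟩
  let J : Type u := s
  -- partition of unity in every factor
  have hg : ∀ i, ∃ g : J → A i, ∑ j, g j = 1 ∧
      ∀ j, (PrimeSpectrum.basicOpen (g j) : Set (PrimeSpectrum (A i))) ⊆ (f i) ⁻¹' (j.1.1 : Set X) := by
    intro i
    choose I hI using fun j : J => (PrimeSpectrum.isClosed_iff_zeroLocus_ideal
      ((f i ⁻¹' (j.1.1 : Set X))ᶜ)).1 ((j.1.1.2.preimage (f i).continuous).isClosed_compl)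
    have htop : ⨆ j, I j = ⊤ := by
      rw [← PrimeSpectrum.zeroLocus_empty_iff_eq_top, PrimeSpectrum.zeroLocus_iSup,
        Set.eq_empty_iff_forall_notMem]
      intro x hx
      obtain ⟨U, hU⟩ := Opens.mem_iSup.1 (hs (show f i x ∈ (⊤ : X.Opens) from trivial))
      obtain ⟨hUs, hxU⟩ := Opens.mem_iSup.1 hU
      have := Set.mem_iInter.1 hx ⟨U, hUs⟩
      rw [← hI] at this
      exact this hxU
    obtain ⟨g, hsum⟩ := (Submodule.mem_iSup_finset_iff_exists_sum (s := Finset.univ) I (1 : A i)).1
      (by simp [htop])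
    refine ⟨fun j => g j, hsum, fun j x hx => ?_⟩
    by_contra hxU
    have : x ∈ PrimeSpectrum.zeroLocus (I j : Set (A i)) := hI j ▸ hxU
    exact hx (this (g j).2)
  choose g hg1 hgU using hg
  -- local morphisms on the localized products
  let P : CommRingCat.{u} := CommRingCat.of (∀ i, A i)
  let L : J → ι → Type u := fun j i => Localization.Away (g i j)
  let S : J → Submonoid (∀ i, A i) := fun j =>
    Submonoid.pi Set.univ (fun i => Submonoid.powers (g i j))
  haveI : ∀ j, IsLocalization (S j) (∀ i, L j i) := fun j => inferInstance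
  let q : ∀ j, Spec (CommRingCat.of (∀ i, L j i)) ⟶ Spec P := fun j =>
    Spec.map (CommRingCat.ofHom (algebraMap (∀ i, A i) (∀ i, L j i)))
  have hlift : ∀ j i, ∃ ρ : CommRingCat.of Γ(X, j.1.1) ⟶ CommRingCat.of (L j i),
      Spec.map ρ ≫ j.1.2.fromSpec =
        Spec.map (CommRingCat.ofHom (algebraMap (A i) (L j i))) ≫ f i := by
    intro j i
    refine ⟨Spec.preimage (IsOpenImmersion.lift j.1.2.fromSpec
      (Spec.map (CommRingCat.ofHom (algebraMap (A i) (L j i))) ≫ f i) ?_), ?_⟩
    · rw [IsAffineOpen.range_fromSpec]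
      rintro _ ⟨x, rfl⟩
      refine hgU i j ?_
      exact fun hmem => x.isPrime.ne_top (Ideal.eq_top_of_isUnit_mem _ hmem
        (IsLocalization.Away.algebraMap_isUnit (g i j)))
    · rw [Spec.map_preimage, IsOpenImmersion.lift_fac]
  choose ρ hρ using hlift
  let φ : ∀ j, Spec (CommRingCat.of (∀ i, L j i)) ⟶ X := fun j =>
    Spec.map (CommRingCat.ofHom (RingHom.pi fun i => (ρ j i).hom)) ≫ j.1.2.fromSpec
  have hφ : ∀ j i, Spec.map (CommRingCat.ofHom (Pi.evalRingHom (L j) i)) ≫ φ j =
      Spec.map (CommRingCat.ofHom (algebraMap (A i) (L j i))) ≫ f i := by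
    intro j i
    rw [← hρ, ← Category.assoc, ← Spec.map_comp]
    rfl
  -- agreement on overlaps
  have hcompat : ∀ j k, pullback.fst (q j) (q k) ≫ φ j = pullback.snd (q j) (q k) ≫ φ k := by
    intro j k
    exact compat A (fun i => g i j) (fun i => g i k) (L j) (L k)
      (fun i => Localization.Away (algebraMap (A i) (L j i) (g i k))) f (φ j) (φ k) (hφ j) (hφ k)
  -- descent
  let p := Sigma.desc q
  have : Flat p := by
    have : ∀ j, Flat (q j) := fun j => by
      rw [HasRingHomProperty.Spec_iff (P := @Flat)]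
      exact RingHom.flat_algebraMap_iff.2 (IsLocalization.flat _ (S j))
    infer_instance
  have : Surjective p := by
    refine Surjective.sigmaDesc_of_union_range_eq_univ ?_
    rw [Set.eq_univ_iff_forall]
    intro x
    by_contra hx
    simp only [Set.mem_iUnion, not_exists] at hx
    have : ∀ j, ∃ m : ι → ℕ, (fun i => g i j ^ m i) ∈ x.asIdeal := by
      intro j
      have hj := hx j
      change x ∉ Set.range (PrimeSpectrum.comap (algebraMap (∀ i, A i) (∀ i, L j i))) at hj
      rw [PrimeSpectrum.localization_comap_range (∀ i, L j i) (S j)] at hj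
      obtain ⟨z, hzS, hzx⟩ := Set.not_disjoint_iff.1 hj
      choose m hm using fun i => hzS i trivial
      exact ⟨m, by rwa [show (fun i => g i j ^ m i) = z from funext hm]⟩
    choose m hm using this
    have hc : ∀ i, ∃ c : J → A i, ∑ j, c j * g i j ^ m j i = 1 := by
      intro i
      refine Ideal.mem_span_range_iff_exists_fun.1 ?_
      by_contra h1
      obtain ⟨M, hM, hle⟩ := Ideal.exists_le_maximal _ ((Ideal.ne_top_iff_one _).2 h1)
      refine hM.ne_top ((Ideal.eq_top_iff_one _).2 (hg1 i ▸ Submodule.sum_mem _ fun j _ => ?_))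
      exact hM.isPrime.mem_of_pow_mem _ (hle (Ideal.subset_span ⟨j, rfl⟩))
    choose c hc using hc
    refine x.isPrime.ne_top ((Ideal.eq_top_iff_one _).2 ?_)
    have : (∑ j, (fun i => c i j) * (fun i => g i j ^ m j i) : ∀ i, A i) = 1 := by
      ext i
      simp [hc i]
    rw [← this]
    exact Submodule.sum_mem _ fun j _ => Ideal.mul_mem_left _ _ (hm j)
  have : QuasiCompact p := by
    have : CompactSpace ↥(∐ fun j => Spec (CommRingCat.of (∀ i, L j i))) := inferInstance
    exact (quasiCompact_iff_compactSpace p).2 this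
  obtain ⟨F, hF'⟩ := desc_family q φ hcompat
  refine ⟨F, fun i => ?_⟩
  refine (Scheme.affineOpenCoverOfSpanRangeEqTop (R := A i) (fun j => g i j) ((Ideal.eq_top_iff_one _).2
    (hg1 i ▸ Submodule.sum_mem _ fun j _ => Ideal.subset_span ⟨j, rfl⟩))).openCover.hom_ext _ _ fun j => ?_
  change Spec.map (CommRingCat.ofHom (algebraMap (A i) (L j i))) ≫ _ =
    Spec.map (CommRingCat.ofHom (algebraMap (A i) (L j i))) ≫ f i
  have hF : q j ≫ F = φ j := hF' j
  rw [← hφ, ← hF, ← Category.assoc, ← Category.assoc, ← Spec.map_comp, ← Spec.map_comp]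
  rfl

/-- Points in a product of rings are families of points. -/
theorem bijective [CompactSpace X] [QuasiSeparatedSpace X] :
    Function.Bijective (fun f : Spec (CommRingCat.of (∀ i, A i)) ⟶ X =>
      fun i : ι => Spec.map (CommRingCat.ofHom (Pi.evalRingHom (fun j => (A j : Type u)) i)) ≫ f) := by
  refine ⟨fun f g h => ?_, fun f => ?_⟩
  · exact hom_ext (B := A)
      (fun i => CommRingCat.ofHom (Pi.evalRingHom (fun j => (A j : Type u)) i))
      (fun q hq => funext fun i => hq i) (fun b => ⟨b, fun i => rfl⟩) f g (congrFun h)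
  · obtain ⟨F, hF⟩ := exists_hom A f
    exact ⟨F, funext hF⟩

end GrothLib.ProdPoints
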